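import Cfsg.Agent.Block.Section
import Cfsg.Agent.Block.Galois
import Cfsg.Agent.Block.Quot
import Cfsg.Agent.BMod.Dict
import Cfsg.Agent.Char.Galois
import Cfsg.Agent.Char.Misc

/-! Groups with one block: `mem_principal_or_defect_zero` (if every centralizer of an element of order `p` has a
normal `p`-subgroup whose centralizer contains no `p`-regular element, every character is in the principal block or
has defect zero); arithmetic of character values at rational elements of order three (`val_three`, `dvd_sum`). -/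

set_option autoImplicit false

namespace Cfsg.Agent.OneBlock

open Cfsg Cfsg.Agent.Block Cfsg.Agent.BMod Cfsg.Agent.Char

variable {G : Type*} [Group G] [Finite G]

theorem mem_principal_or_defect_zero {p : ℕ} [hp : Fact p.Prime] {M : Ideal AlgInt} (hM : IsPModular p M)
    (h : ∀ z : G, orderOf z = p → ∃ Q : Subgroup G, IsPGroup p Q ∧ Q ≤ Subgroup.centralizer {z} ∧
      Subgroup.centralizer {z} ≤ Subgroup.normalizer (Q : Set G) ∧
      ∀ g ∈ Subgroup.centralizer (Q : Set G), g ∈ Subgroup.centralizer {z} → ¬ p ∣ orderOf g → g = 1)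
    (χ : IrrCharacter G) : χ ∈ principalBlock M G ∨
      (charDegree (χ : G → ℂ)).factorization p = (Nat.card G).factorization p := by
  haveI : PMod p M := ⟨hM⟩
  have hB := isPBlock_blockOf (M := M) χ
  obtain ⟨D, hD⟩ := exists_isDefectGroup (p := p) hB
  by_cases e : D = ⊥
  · right
    rw [← blockDefect_eq_zero_iff hB (mem_blockOf_self χ)]
    simpa [e] using (IsDefectGroup.factorization_card hB hD).symm
  left
  have hDp := IsDefectGroup.isPGroup hD
  obtain ⟨k, hk⟩ := hDp.exists_card_eq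
  have hk0 : k ≠ 0 := fun h0 => e (Subgroup.eq_bot_of_card_eq D (by simpa [h0] using hk))
  obtain ⟨z, hz⟩ := exists_prime_orderOf_dvd_card' (G := D) p (hk ▸ dvd_pow_self p hk0)
  have hz' : orderOf (z : G) = p := by rw [Subgroup.orderOf_coe, hz]
  have hzk : ∃ k : ℕ, orderOf (z : G) = p ^ k := ⟨1, by rw [hz', pow_one]⟩
  have hP := isPGroup_zpowers_of_orderOf hzk
  obtain ⟨b, hb⟩ := exists_isInducedBlock_of_br hP (zpowers_le_centralizer (z : G)) (centralizer_zpowers _).le
    ((centralizer_zpowers _).ge.trans (centralizer_le_normalizer' _)) hB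
    ((IsDefectGroup.br_ne_zero_iff hB hD hP).2 ⟨1, by simp⟩)
  obtain ⟨Q, h1, h2, h3, h4⟩ := h z hz'
  haveI : (Q.subgroupOf (Subgroup.centralizer {(z : G)})).Normal :=
    (Subgroup.normal_subgroupOf_iff_le_normalizer h2).2 h3
  have h5 : b = principalBlock M _ := by
    obtain ⟨ξ, rfl⟩ := hb.1
    refine blockOf_eq_of_sameBlock (sameBlock_of_centralizer (P := Q.subgroupOf _) (h1.comap_subtype)
      (fun g hg ho => Subtype.ext (h4 g (fun q hq => ?_) g.2 (by rwa [Subgroup.orderOf_coe]))) ξ (irrOne _))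
    exact congrArg Subtype.val (hg ⟨q, h2 hq⟩ hq)
  have h6 := (isInducedBlock_principal_iff (p := p) (inducedBlockDefined_centralizer hzk hb.1)).2 h5
  exact IsInducedBlock.unique hb h6 ▸ mem_blockOf_self χ

theorem sameBlock_of {p : ℕ} [hp : Fact p.Prime] {M : Ideal AlgInt} (hM : IsPModular p M)
    (h : ∀ χ : IrrCharacter G, χ ∈ principalBlock M G) (χ ψ : IrrCharacter G) :
    SameBlock M (χ : G → ℂ) (ψ : G → ℂ) := by
  haveI : PMod p M := ⟨hM⟩
  exact SameBlock.trans' (SameBlock.symm' (h χ)) (h ψ)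

omit [Finite G] in
theorem sq_eq_inv {x : G} (hx : orderOf x = 3) : x ^ 2 = x⁻¹ := by
  rw [eq_inv_iff_mul_eq_one, ← pow_succ]; simpa [hx] using pow_orderOf_eq_one x

/-- value at a real element of order three. -/
theorem val_three (χ : IrrCharacter G) {x : G} (hx : orderOf x = 3) (hc : IsConj x x⁻¹) {c : ℕ}
    (h : Nat.card (Subgroup.centralizer {x}) = c) :
    ∃ a : ℤ, (χ : G → ℂ) x = a ∧ a ^ 2 ≤ c ∧
      (charDegree (χ : G → ℂ) : ℤ) * c ∣ Nat.card G * a := by
  classical
  have hχ := IsIrrCharacter.isCharacter χ.2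
  obtain ⟨a, ha⟩ := (IsCharacter.isGeneralizedCharacter hχ).exists_int_of_forall_pow (g := x) fun m hm => by
    rw [← pow_mod_orderOf, hx]
    rw [hx] at hm
    have h3 : m % 3 = 1 ∨ m % 3 = 2 := by
      have : ¬ 3 ∣ m := fun h => by simpa using Nat.Coprime.eq_one_of_dvd hm.symm h
      omega
    rcases h3 with h3 | h3
    · rw [h3, pow_one]
    · rw [h3, (IsCharacter.isClassFunction hχ).apply_eq_of_isConj hc, sq_eq_inv hx]
  refine ⟨a, ha, ?_, ?_⟩
  · have h1 := sum_irr_norm_sq x
    have h2 := Finset.single_le_sum (f := fun ψ : IrrCharacter G => ‖(ψ : G → ℂ) x‖ ^ 2)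
      (fun _ _ => sq_nonneg _) (Finset.mem_univ χ)
    rw [h1, ha, h, Complex.norm_intCast, sq_abs] at h2
    exact_mod_cast h2
  · have h1 := IsIrrCharacter.isIntegral_centralChar χ.2 x
    rw [centralChar, ha, IsIrrCharacter.apply_one_eq_charDegree χ.2] at h1
    have h2 := int_dvd_of_isIntegral_div (a := (Subgroup.centralizer {x}).index * a)
      (b := charDegree (χ : G → ℂ)) (by exact_mod_cast (IsIrrCharacter.charDegree_pos χ.2).ne')
      (by simpa using h1)
    rw [← (Subgroup.centralizer {x}).index_mul_card, h]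
    push_cast
    rw [mul_right_comm]
    exact mul_dvd_mul_right h2 _

/-- the sum of a character over a subgroup is divisible by its order. -/
theorem dvd_sum {χ : G → ℂ} (hχ : IsCharacter G χ) (P : Subgroup G) {q : G → Prop} {a b : ℤ} {n N : ℕ}
    (h1 : q 1) (ha : ∀ u ∈ P, u ≠ 1 → q u → χ u = a) (hb : ∀ u ∈ P, ¬ q u → χ u = b)
    (hn : {u | u ∈ P ∧ q u}.ncard = n + 1) (hN : Nat.card P = N) :
    (N : ℤ) ∣ charDegree χ + n * a + (N - (n + 1)) * b := by
  classical
  have := Fintype.ofFinite G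
  obtain ⟨m, hm⟩ := (hχ.restrict P).exists_nat_classInner isCharacter_one
  have h2 := congrArg ((Nat.card P : ℂ) * ·) hm
  simp only [classInner_one_right] at h2
  rw [← mul_assoc, mul_inv_cancel₀ natCard_cast_ne_zero, one_mul, hN,
    ← Finset.sum_subtype (Finset.univ.filter (· ∈ P)) (by simp) χ,
    ← Finset.sum_filter_add_sum_filter_not _ q] at h2
  have e1 : ((Finset.univ.filter (· ∈ P)).filter q).card = n + 1 := by
    rw [← hn, ← Set.ncard_coe_finset]; congr 1; ext; simp
  have e2 : ((Finset.univ.filter (· ∈ P)).filter q).card +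
      ((Finset.univ.filter (· ∈ P)).filter fun u => ¬ q u).card = N := by
    rw [Finset.card_filter_add_card_filter_not, ← hN, Nat.card_eq_fintype_card, Fintype.card_subtype]
  have m1 : (1 : G) ∈ (Finset.univ.filter (· ∈ P)).filter q := by simp [h1]
  rw [← Finset.add_sum_erase _ _ m1, Finset.sum_congr rfl (g := fun _ => (a : ℂ)) (fun u hu => by
      simp only [Finset.mem_erase, Finset.mem_filter] at hu; exact ha u hu.2.1.2 hu.1 hu.2.2),
    Finset.sum_congr (s₁ := Finset.filter (fun u => ¬ q u) _) rfl (g := fun _ => (b : ℂ)) (fun u hu => by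
      simp only [Finset.mem_filter] at hu; exact hb u hu.1.2 hu.2),
    Finset.sum_const, Finset.sum_const, Finset.card_erase_of_mem m1, e1, hχ.apply_one_eq_charDegree] at h2
  refine ⟨m, ?_⟩
  have e3 : (((Finset.univ.filter (· ∈ P)).filter fun u => ¬ q u).card : ℂ) = N - (n + 1) := by
    rw [← e2, e1]; push_cast; ring
  simp only [nsmul_eq_mul, e3, Nat.add_sub_cancel] at h2
  exact_mod_cast h2

theorem dvd_three {χ : G → ℂ} (hχ : IsCharacter G χ) {x : G} (hx : orderOf x = 3) (hc : IsConj x x⁻¹) {a : ℤ}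
    (ha : χ x = a) : (3 : ℤ) ∣ charDegree χ + 2 * a := by
  have hN : Nat.card (Subgroup.zpowers x) = 3 := by rw [Nat.card_zpowers, hx]
  have := dvd_sum hχ (Subgroup.zpowers x) (q := fun _ => True) (a := a) (b := 0) (n := 2) trivial
    (fun u hu h1 _ => by
      obtain ⟨m, rfl⟩ := mem_powers_iff_mem_zpowers.2 hu
      simp only at h1 ⊢
      rw [← pow_mod_orderOf, hx] at h1 ⊢
      have h3 : m % 3 = 0 ∨ m % 3 = 1 ∨ m % 3 = 2 := by omega
      rcases h3 with h3 | h3 | h3 <;> rw [h3] at h1 ⊢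
      · simp at h1
      · rw [pow_one, ha]
      · rw [← ha, (IsCharacter.isClassFunction hχ).apply_eq_of_isConj hc, sq_eq_inv hx])
    (fun _ _ h => (h trivial).elim) (by simpa [← Nat.card_coe_set_eq] using hN) hN
  simpa using this

/-- degree of a character of defect zero. -/
theorem deg_of_defect_zero (χ : IrrCharacter G) {p e N : ℕ} (hp : p.Prime) (hN : Nat.card G = N)
    (he : p ^ e ∣ N) (h : (charDegree (χ : G → ℂ)).factorization p = (Nat.card G).factorization p) :
    ∃ k, charDegree (χ : G → ℂ) = p ^ e * k ∧ p ^ e * k ∣ N ∧ (p ^ e * k) ^ 2 ≤ N := by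
  have h0 := (IsIrrCharacter.charDegree_pos χ.2).ne'
  have hN0 : N ≠ 0 := hN ▸ Nat.card_pos.ne'
  obtain ⟨k, hk⟩ : p ^ e ∣ charDegree (χ : G → ℂ) := by
    rw [hp.pow_dvd_iff_le_factorization h0, h, hN, ← hp.pow_dvd_iff_le_factorization hN0]; exact he
  refine ⟨k, hk, hk ▸ hN ▸ IsIrrCharacter.charDegree_dvd_card χ.2, ?_⟩
  rw [← hk, ← hN]
  exact (IsIrrCharacter.charDegree_sq_le_index_center χ.2).trans (Nat.le_of_dvd Nat.card_pos (Subgroup.index_dvd_card _))

end Cfsg.Agent.OneBlock
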