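import Cfsg.Agent.Perm.Huppert2
import Cfsg.Agent.Perm.Regular
import Cfsg.Prelude.Def_Perm

/-! Affine permutation groups: the linear representation of a point stabiliser on a regular
elementary abelian normal subgroup (`linRep`) and the passage from a semilinear stabiliser to a
group of semi-affine maps (`exists_semiaffine`). -/

set_option autoImplicit false

namespace Cfsg.Agent.Perm

open Subgroup Cfsg.Agent.BG MulAction

variable {G Ω : Type*} [Group G] {p : ℕ} [Fact p.Prime] {N : Subgroup G} [hN : N.Normal]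
  (hV : Abelem p N)

/-- the conjugation action of `H` on the elementary abelian normal subgroup `N` -/
noncomputable def linRep (H : Subgroup G) : H →* (AbV hV ≃ₗ[ZMod p] AbV hV) :=
  (LinearMap.GeneralLinearGroup.generalLinearEquiv _ _).toMonoidHom.comp
    (abRep hV (le_top.trans (normal_top N).norm : H ≤ _)).asGroupHom

@[simp] theorem val_linRep (H : Subgroup G) (g : H) (v : AbV hV) :
    (linRep hV H g v).val = g * v.val * (g : G)⁻¹ := rfl

variable [MulAction G Ω]

theorem linRep_injective [FaithfulSMul G Ω] (ht : IsPretransitive N Ω) (a : Ω) :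
    Function.Injective (linRep hV (stabilizer G a)) := by
  refine (injective_iff_map_eq_one _).2 fun g hg => Subtype.ext (eq_one_of_commute ht
    (fun u hu => ?_) g.2)
  have := congrArg AbV.val (DFunLike.congr_fun hg (AbV.mk hV u hu))
  exact (mul_inv_eq_iff_eq_mul.1 this).symm

theorem exists_semiaffine [Finite G] (ht : IsPretransitive N Ω) (a : Ω)
    (hr : ∀ u ∈ N, u • a = a → u = 1) {f : ℕ} (hf : Nat.card Ω = p ^ f) {F : Type} [Field F]
    [Fintype F] (e : AbV hV ≃+ F) (h : ∀ g : stabilizer G a, ∃ (c : F) (σ : F ≃+* F),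
      ∀ v, e (linRep hV _ g v) = c * σ (e v)) :
    ∃ ε : Ω ≃ GaloisField p f, (∀ g : G, ε.symm.trans ((toPerm g).trans ε) ∈
      semiaffineGroup (GaloisField p f)) ∧ ∀ b, ∃ g ∈ N, ∀ x, ε (g • x) = ε x + b := by
  have c1 : Nat.card F = p ^ f := by
    rw [← Nat.card_congr e.toEquiv, AbV.card, card_eq_of_regular ht a hr, hf]
  have f0 : f ≠ 0 := by
    rintro rfl
    exact Finite.one_lt_card.ne' c1
  letI := Fintype.ofFinite (GaloisField p f)
  let k : F ≃+* GaloisField p f := FiniteField.ringEquivOfCardEq (by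
    rw [← Nat.card_eq_fintype_card, ← Nat.card_eq_fintype_card, c1, GaloisField.card p f f0])
  let τ : AbV hV ≃ Ω := Equiv.ofBijective (fun v => v.val • a) ⟨fun v w e => AbV.ext
    (eq_of_smul_eq_of_semiregular hr v.val_mem w.val_mem e), fun x => by
      obtain ⟨u, hu⟩ := ht.exists_smul_eq a x
      exact ⟨AbV.mk hV u u.2, hu⟩⟩
  have hτ : ∀ v, τ v = v.val • a := fun _ => rfl
  refine ⟨τ.symm.trans (e.toEquiv.trans k.toEquiv), fun g => ?_, fun b => ?_⟩
  · obtain ⟨u, hu⟩ := τ.surjective (g • a)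
    have hg : u.val⁻¹ * g ∈ stabilizer G a := by
      rw [mem_stabilizer_iff, mul_smul, ← hu, hτ, inv_smul_smul]
    obtain ⟨c, σ, hc⟩ := h ⟨_, hg⟩
    have c0 : c ≠ 0 := by
      rintro rfl
      have := hc (e.symm 1)
      simp at this
    refine ⟨Units.mk0 (k c) (by simpa using c0), k (e u), (k.symm.trans σ).trans k, fun x => ?_⟩
    obtain ⟨x, rfl⟩ := k.surjective x
    obtain ⟨v, rfl⟩ := e.surjective x
    have : ∀ v, g • τ v = τ (linRep hV _ ⟨_, hg⟩ v + u) := fun v => by
      rw [add_comm, hτ, hτ, AbV.val_add, val_linRep, mul_smul, mul_smul, mul_inv_rev, mul_smul g⁻¹,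
        inv_inv, ← hτ u, hu]
      simp [mul_smul]
    simp [this, hc]
  · obtain ⟨b, rfl⟩ := k.surjective b
    obtain ⟨u, rfl⟩ := e.surjective b
    refine ⟨u.val, u.val_mem, fun x => ?_⟩
    obtain ⟨v, rfl⟩ := τ.surjective x
    have : u.val • τ v = τ (v + u) := by rw [add_comm, hτ, hτ, AbV.val_add, mul_smul]
    simp [this]

end Cfsg.Agent.Perm
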