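import Cfsg.Agent.Perm.Huppert
import Cfsg.Agent.Perm.SchurField
import Cfsg.Agent.Transfer.Hol

/-! Huppert's theorem on solvable linear groups transitive on non-zero vectors: the
two-dimensional case (`index_dvd_24`), the linear form (`huppert_irr`, `huppert`) and the
semilinear structure given by an irreducible abelian normal subgroup (`semilinear_of_irr`). -/

set_option autoImplicit false

namespace Cfsg.Agent.Perm

open Subgroup Cfsg.Agent.BG Module
open scoped commutatorElement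

theorem scalar_of_commute {F : Type*} [Field F] {y a b : Matrix (Fin 2) (Fin 2) F}
    (ha : y * a = a * y) (hb : y * b = b * y) (hab : a * b ≠ b * a) :
    ∃ c : F, y = c • (1 : Matrix (Fin 2) (Fin 2) F) := by
  have key : ∀ t : F, (t = y 0 1 ∨ t = y 1 0 ∨ t = y 0 0 - y 1 1) → t = 0 := fun t ht => by
    by_contra h0
    refine hab (smul_right_injective _ h0 ?_)
    have a1 := congrFun₂ ha 0 0
    have a2 := congrFun₂ ha 0 1
    have a3 := congrFun₂ ha 1 0
    have b1 := congrFun₂ hb 0 0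
    have b2 := congrFun₂ hb 0 1
    have b3 := congrFun₂ hb 1 0
    simp only [Matrix.mul_apply, Fin.sum_univ_two] at a1 a2 a3 b1 b2 b3
    ext i j
    fin_cases i <;> fin_cases j <;> rcases ht with rfl | rfl | rfl <;>
      simp only [Matrix.smul_apply, Matrix.mul_apply, Fin.sum_univ_two, smul_eq_mul, Fin.zero_eta,
        Fin.mk_one, Fin.isValue] <;> grind
  refine ⟨y 0 0, ?_⟩
  ext i j
  fin_cases i <;> fin_cases j <;>
    simp [key _ (Or.inl rfl), key _ (Or.inr (Or.inl rfl)), sub_eq_zero.1 (key _ (Or.inr (Or.inr rfl)))]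

/-- A solvable subgroup of `GL₂` all of whose abelian normal subgroups are scalar has order
dividing `24` modulo scalars. -/
theorem index_dvd_24 {F H : Type*} [Field F] [Group H] [Finite H] (hs : Group.IsSolvable H)
    (ρ : H →* Matrix (Fin 2) (Fin 2) F) (hρ : Function.Injective ρ) (Z : Subgroup H)
    (hZ : ∀ g, g ∈ Z ↔ ∃ c : F, ρ g = c • (1 : Matrix (Fin 2) (Fin 2) F))
    (hA : ∀ A : Subgroup H, A.Normal → IsMulCommutative A → A ≤ Z) : Z.index ∣ 24 := by
  have cen : ∀ z ∈ Z, ∀ g, g * z = z * g := fun z hz g => hρ (by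
    obtain ⟨c, hc⟩ := (hZ z).1 hz
    simp [hc])
  haveI hn : Z.Normal := ⟨fun z hz g => by rwa [cen z hz g, mul_inv_cancel_right]⟩
  rcases eq_or_ne Z ⊤ with rfl | hne
  · simp
  obtain ⟨B, -, hB⟩ := chief_factor_exists (normal_top Z) (normal_refl ⊤) (lt_top_iff_ne_top.2 hne)
  haveI hBn : B.Normal := normalizer_eq_top_iff.1 (top_le_iff.1 hB.normalU.norm)
  have hBB : ⁅B, B⁆ ≤ Z := der1_min (le_top.trans hB.normalV.norm)
    (sol_chief_abelem (solvableS le_top (isog_sol ⟨topEquiv.symm⟩ hs)) hB).choose_spec.2.1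
  obtain ⟨a, ha, b, hb, hab⟩ : ∃ a ∈ B, ∃ b ∈ B, a * b ≠ b * a := by
    by_contra! k
    exact hB.lt.not_ge (hA B hBn ⟨⟨fun a b => Subtype.ext (k a a.2 b b.2)⟩⟩)
  have sgn : ∀ g x : H, ⁅g, x⁆ ∈ Z → ⁅g, x⁆ ≠ 1 → ρ ⁅g, x⁆ = -1 := fun g x h1 h2 => by
    obtain ⟨c, hc⟩ := (hZ _).1 h1
    have := congrArg Units.val (map_commutatorElement (Matrix.detMonoidHom.comp ρ).toHomUnits g x)
    rw [commutatorElement_eq_one_iff_mul_comm.2 (mul_comm (_ : Fˣ) _)] at this
    change (ρ _).det = 1 at this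
    rw [hc, Matrix.det_smul, Matrix.det_one, mul_one, Fintype.card_fin, sq_eq_one_iff] at this
    rcases this with rfl | rfl
    · exact absurd (hρ (by rw [hc, one_smul, map_one])) h2
    · rw [hc, neg_one_smul]
  have two : ∀ (D : Subgroup H) (x : H), (∀ d ∈ D, ⁅d, x⁆ ∈ Z) → C1[x].relIndex D ∣ 2 := fun D x hD => by
    rw [relIndex_dvd_two_iff]
    by_cases k : ∃ d ∈ D, d ∉ C1[x]
    · obtain ⟨d, hd, hd'⟩ := k
      refine ⟨d, hd, fun e he => or_iff_not_imp_right.2 fun he' => mem_cent1.2 (hρ ?_)⟩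
      have k : ∀ d ∈ D, d ∉ C1[x] → ρ d * ρ x = -(ρ x * ρ d) := fun d hd hd' => by
        rw [← neg_one_mul, ← sgn d x (hD d hd) fun e => hd' (mem_cent1.2
          (commutatorElement_eq_one_iff_mul_comm.1 e)), ← map_mul, ← map_mul, ← map_mul]
        congr 1; group
      simp only [map_mul]
      rw [mul_assoc, k d hd hd', mul_neg, ← mul_assoc, k e he he', neg_mul, neg_neg, mul_assoc]
    · push Not at k
      exact ⟨1, one_mem D, fun e he => Or.inr (k e he)⟩
  let X := {x : H ⧸ Z // x ∈ B.map (QuotientGroup.mk' Z) ∧ x ≠ 1}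
  letI : MulAction H X :=
    { smul := fun g x => ⟨(g : H ⧸ Z) * x * (g : H ⧸ Z)⁻¹,
        (hBn.map _ (QuotientGroup.mk'_surjective Z)).conj_mem _ x.2.1 _,
        fun e => x.2.2 (conj_eq_one_iff.1 e)⟩
      one_smul := fun x => Subtype.ext (by change _ * _ * _ = _; simp)
      mul_smul := fun g k x => Subtype.ext (by
        change _ * _ * _ = _ * (_ * _ * _) * _; simp [mul_assoc]) }
  let D := (MulAction.toPermHom H X).ker
  have hD : ∀ d ∈ D, ∀ x ∈ B, ⁅d, x⁆ ∈ Z := fun d hd x hx => by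
    rw [← QuotientGroup.eq_one_iff, ← QuotientGroup.mk'_apply, map_commutatorElement,
      commutatorElement_def, mul_inv_eq_one]
    by_cases h1 : (x : H ⧸ Z) = 1
    · simp [h1]
    · exact congrArg Subtype.val (DFunLike.congr_fun hd (⟨x, mem_map_of_mem _ hx, h1⟩ : X))
  have four : ∀ E : Subgroup H, Z ≤ E → (∀ d ∈ E, ∀ x ∈ B, ⁅d, x⁆ ∈ Z) → Z.relIndex E ∣ 4 :=
    fun E hE h => by
    have e : Z = C1[b] ⊓ (C1[a] ⊓ E) := le_antisymm
      (fun z hz => ⟨mem_cent1.2 (cen z hz b).symm, mem_cent1.2 (cen z hz a).symm, hE hz⟩)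
      fun z hz => (hZ z).2 (scalar_of_commute (a := ρ a) (b := ρ b)
        (by rw [← map_mul, ← map_mul, mem_cent1.1 hz.2.1]) (by rw [← map_mul, ← map_mul, mem_cent1.1 hz.1])
        (by rw [← map_mul, ← map_mul]; exact hρ.ne hab))
    rw [e, ← relIndex_mul_relIndex _ (C1[a] ⊓ E) E inf_le_right inf_le_right, inf_relIndex_right,
      inf_relIndex_right]
    exact mul_dvd_mul (two (C1[a] ⊓ E) b fun d hd => h d hd.2 b hb) (two E a fun d hd => h d hd a ha)
  have hZD : Z ≤ D := fun z hz => Equiv.ext fun x => Subtype.ext (by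
    change (z : H ⧸ Z) * _ * _ = _
    simp [(QuotientGroup.eq_one_iff z).2 hz])
  have hX : Nat.card X ≤ 3 := by
    have h1 := Nat.le_of_dvd four_pos (four B hB.lt.le fun d hd x hx =>
      hBB (commutator_mem_commutator hd hx))
    have h2 : Nat.card (B.map (QuotientGroup.mk' Z)) = Z.relIndex B := by
      rw [← relIndex_ker, QuotientGroup.ker_mk']
    have h3 : Nat.card X = ((B.map (QuotientGroup.mk' Z) : Set (H ⧸ Z)) \ {1}).ncard := rfl
    rw [h3, Set.ncard_diff_singleton_of_mem (one_mem _), ← Nat.card_coe_set_eq]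
    change Nat.card (B.map (QuotientGroup.mk' Z)) - 1 ≤ 3
    omega
  have six : D.index ∣ 6 := by
    rw [index_ker]
    refine (card_subgroup_dvd_card _).trans ?_
    rw [Nat.card_perm]
    exact Nat.factorial_dvd_factorial hX
  rw [← relIndex_mul_index hZD]
  exact mul_dvd_mul (four D hZD hD) six

section linear
variable {p : ℕ} [hp : Fact p.Prime] {V : Type*} [AddCommGroup V] [Module (ZMod p) V] [Finite V]
  {H : Type*} [Group H] (ρ : H →* (V ≃ₗ[ZMod p] V))

/-- `A` acts irreducibly. -/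
def IrrOn (A : Subgroup H) : Prop :=
  ∀ U : AddSubgroup V, (∀ a ∈ A, ∀ u ∈ U, ρ a u ∈ U) → U = ⊥ ∨ U = ⊤

theorem semilinear_of_irr [Nontrivial V] {A : Subgroup H} [hn : A.Normal] (hc : IsMulCommutative A)
    (hA : IrrOn ρ A) : ∃ (F : Type) (_ : Field F) (_ : Fintype F) (e : V ≃+ F),
      (∀ g : H, ∃ (a : F) (σ : F ≃+* F), ∀ v : V, e (ρ g v) = a * σ (e v)) ∧
      ∀ g ∈ centralizer (A : Set H), ∃ a : F, ∀ v : V, e (ρ g v) = a * e v := by
  obtain ⟨v₀, hv₀⟩ := exists_ne (0 : V)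
  let r : H → AddMonoid.End V := fun g => (ρ g).toLinearMap.toAddMonoidHom
  have rr : ∀ g k : H, r (g * k) = r g * r k := fun g k => by
    ext v; exact DFunLike.congr_fun (map_mul ρ g k) v
  obtain ⟨K, _, _, e, -, hK⟩ := exists_field_of_irreducible (r '' A)
    (by rintro _ ⟨a, ha, rfl⟩ _ ⟨b, hb, rfl⟩; rw [← rr, ← rr, hc.comm ha hb])
    (fun U hU => hA U fun a ha u hu => hU _ ⟨a, ha, rfl⟩ u hu) hv₀
  let m : K → AddMonoid.End V := fun a =>
    (e.toAddMonoidHom.comp (AddMonoidHom.mulLeft a)).comp e.symm.toAddMonoidHom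
  have hm : ∀ a x, m a (e x) = e (a * x) := fun a x => congrArg (fun t => e (a * t)) (e.symm_apply_apply x)
  have hmc : ∀ a, ∀ s ∈ A, r s * m a = m a * r s := fun a s hs => by
    obtain ⟨c, hc'⟩ := hK (r s) (by rintro _ ⟨t, ht, rfl⟩; rw [← rr, ← rr, hc.comm ht hs])
    ext v
    obtain ⟨x, rfl⟩ := e.surjective v
    change r s (m a (e x)) = m a (r s (e x))
    rw [hm, hc', hc', hm, mul_left_comm]
  refine ⟨K, inferInstance, inferInstance, e.symm, fun g => ?_, fun g hg => ?_⟩
  · have h1 : ∀ a, ∃ b, ∀ x, ρ g (m a (ρ g⁻¹ (e x))) = e (b * x) := fun a =>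
      hK (r g * m a * r g⁻¹) (by
        rintro _ ⟨s, hs, rfl⟩
        have := hmc a _ (hn.conj_mem' s hs g)
        calc _ = r g * (r (g⁻¹ * s * g) * m a) * r g⁻¹ := by simp [← mul_assoc, ← rr]
          _ = _ := by rw [this]; simp [mul_assoc, ← rr])
    choose σ hσ using h1
    have h2 : ∀ a v, ρ g (m a v) = m (σ a) (ρ g v) := fun a v => by
      obtain ⟨x, hx⟩ := e.surjective (ρ g v)
      rw [← hx, hm, ← hσ, hx]; simp
    obtain ⟨c, hc⟩ := e.surjective (ρ g (e 1))
    have h3 : ∀ a, ρ g (e a) = e (σ a * c) := fun a => by rw [← hm, hc, ← h2, hm, mul_one]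
    have c0 : c ≠ 0 := by
      rintro rfl
      exact one_ne_zero (e.injective ((ρ g).injective (by rw [← hc]; simp)))
    let τ : K →+* K :=
      { toFun := σ
        map_one' := mul_right_cancel₀ c0 (e.injective (by rw [← h3, one_mul, hc]))
        map_mul' := fun a b => mul_right_cancel₀ c0 (e.injective (by
          rw [← h3, ← hm, h2, h3, hm, mul_assoc]))
        map_zero' := mul_right_cancel₀ c0 (e.injective (by rw [← h3]; simp))
        map_add' := fun a b => mul_right_cancel₀ c0 (e.injective (by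
          rw [← h3, add_mul, map_add, map_add, map_add, h3, h3])) }
    refine ⟨c, RingEquiv.ofBijective τ (Finite.injective_iff_bijective.1 τ.injective), fun v => ?_⟩
    obtain ⟨x, rfl⟩ := e.surjective v
    rw [h3, e.symm_apply_apply, e.symm_apply_apply, mul_comm]; rfl
  · obtain ⟨a, ha⟩ := hK (r g) (by rintro _ ⟨s, hs, rfl⟩; rw [← rr, ← rr, hg s hs])
    refine ⟨a, fun v => ?_⟩
    obtain ⟨x, rfl⟩ := e.surjective v
    exact (congrArg e.symm (ha x)).trans (by simp)

variable [Finite H] (hs : Group.IsSolvable H) (hρ : Function.Injective ρ)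
  (ht : ∀ v w : V, v ≠ 0 → w ≠ 0 → ∃ g : H, ρ g v = w)
include hs hρ ht

theorem huppert_two (h2 : finrank (ZMod p) V = 2)
    (h : ∀ A : Subgroup H, A.Normal → IsMulCommutative A → ¬ IrrOn ρ A) : p + 1 ∣ 24 := by
  let b := finBasisOfFinrankEq (ZMod p) V h2
  let τ : H →* Matrix (Fin 2) (Fin 2) (ZMod p) :=
    ((LinearMap.toMatrixAlgEquiv b : _ →* _).comp LinearEquiv.automorphismGroup.toLinearMapMonoidHom).comp ρ
  have hτ : Function.Injective τ := ((LinearMap.toMatrixAlgEquiv b).injective.comp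
    LinearEquiv.toLinearMap_injective).comp hρ
  let Z : Subgroup H :=
    { carrier := {g | ∃ c : (ZMod p)ˣ, ∀ v, ρ g v = (c : ZMod p) • v}
      mul_mem' := fun ⟨c, hc⟩ ⟨d, hd⟩ => ⟨c * d, fun v => by simp [hc, hd, mul_smul]⟩
      one_mem' := ⟨1, by simp⟩
      inv_mem' := fun {g} ⟨c, hc⟩ => ⟨c⁻¹, fun v => (ρ g).injective (by
        rw [← LinearEquiv.mul_apply, ← map_mul, mul_inv_cancel, map_one, hc, smul_smul, Units.mul_inv,
          one_smul]; rfl)⟩ }
  haveI : Nontrivial V := nontrivial_of_finrank_pos (R := ZMod p) (by omega)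
  obtain ⟨v₀, hv₀⟩ := exists_ne (0 : V)
  have hZ : ∀ g, (∃ c : ZMod p, (ρ g).toLinearMap = c • 1) → g ∈ Z := fun g ⟨c, hc⟩ => by
    have k : ∀ v, ρ g v = c • v := fun v => DFunLike.congr_fun hc v
    exact ⟨Units.mk0 c (by rintro rfl; exact hv₀ ((ρ g).injective (by simp [k]))), k⟩
  have cV : Nat.card V = p ^ 2 := by rw [natCard_eq_pow_finrank (K := ZMod p), h2, Nat.card_zmod]
  have h24 := index_dvd_24 hs τ hτ Z (fun g => ⟨fun ⟨c, hc⟩ => ⟨c, by
      change LinearMap.toMatrixAlgEquiv b (ρ g).toLinearMap = _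
      rw [show (ρ g).toLinearMap = (c : ZMod p) • 1 from LinearMap.ext hc, map_smul, map_one]⟩,
    fun ⟨c, hc⟩ => hZ g ⟨c, (LinearMap.toMatrixAlgEquiv b).injective (by rw [map_smul, map_one]; exact hc)⟩⟩)
    fun A hA hc g hg => hZ g (LinearMap.exists_eq_smul_id_of_forall_notLinearIndependent fun v hv => by
      obtain ⟨U, hU, h1⟩ := by simpa only [IrrOn, not_forall] using h A hA hc
      obtain ⟨u, hu, u0⟩ := (AddSubgroup.bot_or_exists_ne_zero U).resolve_left fun e => h1 (Or.inl e)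
      obtain ⟨k, rfl⟩ := ht u v u0 (hv.ne_zero 0)
      refine h1 (Or.inr ?_)
      have := hv.map' (ρ k⁻¹).toLinearMap (ρ k⁻¹).ker
      have sp := this.span_eq_top_of_card_eq_finrank' (by simp [h2])
      rw [eq_top_iff]
      intro w _
      refine (Submodule.span_le (p := AddSubgroup.toZModSubmodule p U)).2 ?_ (sp.ge trivial)
      rintro _ ⟨i, rfl⟩
      fin_cases i
      · simpa using hu
      · simpa using hU _ (hA.conj_mem' g hg k) u hu)
  have d1 : p ^ 2 - 1 ∣ Nat.card H := by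
    letI : MulAction H V := MulAction.compHom V ρ
    have : MulAction.orbit H v₀ = {0}ᶜ := Set.ext fun w => ⟨by
      rintro ⟨g, rfl⟩ e
      exact hv₀ ((ρ g).injective (e.trans (map_zero _).symm)), fun hw => ht v₀ w hv₀ hw⟩
    rw [← cV, ← Set.ncard_univ, ← Set.ncard_diff_singleton_of_mem (Set.mem_univ 0),
      ← Set.compl_eq_univ_diff, ← this, ← MulAction.index_stabilizer]
    exact index_dvd_card _
  have d2 : Nat.card Z ∣ p - 1 := by
    choose c hc using fun z : Z => z.2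
    have := card_dvd_of_injective (MonoidHom.mk' c fun a b => Units.ext (smul_left_injective _ hv₀ (by
      simp only [← hc, Units.val_mul, mul_smul]; simp))) fun a b e => Subtype.ext (hρ (by
        ext v; rw [hc, hc]; exact congrArg (fun t : (ZMod p)ˣ => (t : ZMod p) • v) e))
    rwa [Nat.card_units, Nat.card_zmod] at this
  rw [← card_mul_index Z, ← one_pow 2, Nat.sq_sub_sq, mul_comm] at d1
  exact Nat.dvd_of_mul_dvd_mul_left (Nat.sub_pos_of_lt hp.out.one_lt) (d1.trans (mul_dvd_mul d2 h24))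

open Transfer SemidirectProduct in
theorem huppert_irr [Nontrivial V] : (∃ A : Subgroup H, A.Normal ∧ IsMulCommutative A ∧ IrrOn ρ A) ∨
    Nat.card V ∈ ({9, 25, 49, 121, 529, 81} : Set ℕ) := by
  let φ : H →* MulAut (Multiplicative V) := MonoidHom.mk'
    (fun g => AddEquiv.toMultiplicative (ρ g).toAddEquiv) fun a b => by ext; simp
  have cV := natCard_eq_pow_finrank (K := ZMod p) (V := V)
  rw [Nat.card_zmod] at cV
  have h : TrLin p (finrank (ZMod p) V) (sdL φ ⊤) (sdR φ ⊤) := by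
    refine ⟨abelem_map _ ⟨inferInstance, fun x _ => ?_⟩, by rw [card_sdL, card_top]; exact cV,
      finrank_pos, isog_sol ⟨topEquiv.symm.trans (equivMapOfInjective _ _ inr_injective)⟩ hs,
      sdR_le_normalizer_top φ ⊤, eq_bot_iff.2 ?_, ?_⟩
    · apply Multiplicative.toAdd.injective
      simp [← Nat.cast_smul_eq_nsmul (ZMod p)]
    · rintro _ ⟨⟨g, -, rfl⟩, hg⟩
      rw [show g = 1 from hρ (by
        rw [map_one]
        ext v
        exact congrArg Multiplicative.toAdd ((inr_mul_inl_eq_iff φ).1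
          (hg _ ⟨Multiplicative.ofAdd v, trivial, rfl⟩).symm)), map_one]
      exact one_mem _
    · rintro _ ⟨v, -, rfl⟩ hv _ ⟨w, -, rfl⟩ hw
      obtain ⟨g, hg⟩ := ht v.toAdd w.toAdd (fun e => hv (by rw [show v = 1 from e, map_one]))
        fun e => hw (by rw [show w = 1 from e, map_one])
      exact ⟨_, ⟨g, trivial, rfl⟩, by rw [inr_mul_inl_mul_inv]; exact congrArg _ hg⟩
  rcases h.main with ⟨A, h1, h2, h3⟩ | ⟨h1, h2⟩ | h1
  · refine Or.inl ⟨A.comap inr, ⟨fun a ha g => ?_⟩, ⟨⟨fun a b => Subtype.ext (inr_injective (φ := φ) ?_)⟩⟩,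
      fun U hU => ?_⟩
    · simpa using h1.conj_mem (g := inr g) ⟨g, trivial, rfl⟩ ha
    · simpa using h2.comm a.2 b.2
    · have e : A = sdR φ (A.comap inr) := (map_comap_eq_self (by
        rw [MonoidHom.range_eq_map]; exact h1.le)).symm
      refine (h3.min (sdL φ U.toSubgroup) (map_mono le_top) (e ▸ (sdR_le_normalizer φ).2
        fun a ha u hu => hU a ha _ hu)).imp (fun k => ?_) fun k => ?_
      · exact AddSubgroup.toSubgroup.injective (by
          simpa using (map_eq_bot_iff_of_injective _ inl_injective).1 k)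
      · exact AddSubgroup.toSubgroup.injective (by simpa using sdL_injective φ k)
  · rw [or_iff_not_imp_left]
    intro k
    have d := huppert_two ρ hs hρ ht h1 fun A a b c => k ⟨A, a, b, c⟩
    have l := Nat.le_of_dvd (by norm_num) d
    have pp := hp.out
    rw [cV, h1]
    revert pp d h2
    generalize p = q at l
    intro h2 d pp
    have : q ≤ 23 := by omega
    interval_cases q <;> simp_all (config := {decide := true})
  · simp [cV, h1]

/-- Huppert's theorem. -/
theorem huppert [Nontrivial V] : (∃ (F : Type) (_ : Field F) (_ : Fintype F) (e : V ≃+ F),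
      ∀ g : H, ∃ (a : F) (σ : F ≃+* F), ∀ v : V, e (ρ g v) = a * σ (e v)) ∨
    Nat.card V ∈ ({9, 25, 49, 121, 529, 81} : Set ℕ) :=
  (huppert_irr ρ hs hρ ht).imp_left fun ⟨_, _, h2, h3⟩ =>
    let ⟨F, a, b, e, h, _⟩ := semilinear_of_irr ρ h2 h3; ⟨F, a, b, e, h⟩

end linear

end Cfsg.Agent.Perm
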